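import Cfsg.Agent.CoTwoType.Nwc.Pre

/-!
An eight-dimensional `Pre` setting whose image is the whole even stabiliser of a non-singular vector:
`z` is weakly closed in `O_2(C(z))`.
-/

set_option autoImplicit false
set_option linter.unusedSectionVars false

open Cfsg Subgroup QuadraticMap Cfsg.Agent.Classical.Quad Cfsg.Agent.LargeExtra

namespace Cfsg.Agent.CoTwoType

variable {W : Type*} [AddCommGroup W] [Module (ZMod 2) W] [Finite W] {Q : QuadraticForm (ZMod 2) W}

theorem z2_ne : ∀ {c : ZMod 2}, c ≠ 0 → c = 1 := by decide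

theorem polar_self_zero (x : W) : polar Q x x = 0 := by
  rw [polar_self, two_smul]; exact (by decide : ∀ c : ZMod 2, c + c = 0) _

theorem q_add (x y : W) : Q (x + y) = Q x + Q y + polar Q x y := by
  rw [polar]; ring

theorem polar_zero_of_sing {D : Submodule (ZMod 2) W} (hD : ∀ e ∈ D, Q e = 0) {x y : W} (hx : x ∈ D)
    (hy : y ∈ D) : polar Q x y = 0 := by
  rw [polar, hD _ (D.add_mem hx hy), hD x hx, hD y hy]; simp

theorem rO_two {w : W} (hw : Q w = 1) (hne : Q w ≠ 0) (x : W) :
    (rO hne).1 x = x + polar Q x w • w := by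
  rw [rO_apply, hw, div_one, sub_eq_add_neg, ZModModule.neg_eq_self]

theorem exists_dual (hQ : (polarBilin Q).Nondegenerate) {x : W} (hx : x ≠ 0) : ∃ y, polar Q x y = 1 := by
  by_contra h
  push Not at h
  exact hx (hQ.1 x fun y => (z2_cases _).resolve_right (h y))

/-- A vector outside the span of two others is detected by a vector orthogonal to both. -/
theorem exists_sep (hQ : (polarBilin Q).Nondegenerate) {e a b : W}
    (h : ∀ s t : ZMod 2, e ≠ s • a + t • b) :
    ∃ y, polar Q y a = 0 ∧ polar Q y b = 0 ∧ polar Q y e = 1 := by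
  by_contra hcon
  push Not at hcon
  have hr : LinearMap.BilinForm.IsRefl (polarBilin Q) := fun x y hxy => by
    change polar Q y x = 0
    rw [polar_comm]; exact hxy
  have hmem : e ∈ LinearMap.BilinForm.orthogonal (polarBilin Q)
      (LinearMap.BilinForm.orthogonal (polarBilin Q) (Submodule.span (ZMod 2) {a, b})) := fun y hy => by
    refine (z2_cases _).resolve_right (hcon y ?_ ?_)
    · rw [polar_comm]; exact hy a (Submodule.subset_span (Or.inl rfl))
    · rw [polar_comm]; exact hy b (Submodule.subset_span (Or.inr rfl))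
  rw [LinearMap.BilinForm.orthogonal_orthogonal hQ hr] at hmem
  obtain ⟨s, t, hst⟩ := Submodule.mem_span_pair.1 hmem
  exact h s t hst.symm

/-- A non-singular vector orthogonal to two orthogonal hyperbolic pairs. -/
theorem exists_one (hQ : (polarBilin Q).Nondegenerate) (hc : Nat.card W = 256) {a b c d : W}
    (hab : polar Q a b = 1) (hcd : polar Q c d = 1) (hac : polar Q a c = 0) (had : polar Q a d = 0)
    (hbc : polar Q b c = 0) (hbd : polar Q b d = 0) :
    ∃ w, Q w = 1 ∧ polar Q w a = 0 ∧ polar Q w b = 0 ∧ polar Q w c = 0 ∧ polar Q w d = 0 := by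
  have hba : polar Q b a = 1 := (polar_comm _ _ _).trans hab
  have hdc : polar Q d c = 1 := (polar_comm _ _ _).trans hcd
  have hca : polar Q c a = 0 := (polar_comm _ _ _).trans hac
  have hda : polar Q d a = 0 := (polar_comm _ _ _).trans had
  have hcb : polar Q c b = 0 := (polar_comm _ _ _).trans hbc
  have hdb : polar Q d b = 0 := (polar_comm _ _ _).trans hbd
  let pj : W → W := fun x => x + polar Q x b • a + polar Q x a • b + polar Q x d • c + polar Q x c • d
  have hpj : ∀ x, polar Q (pj x) a = 0 ∧ polar Q (pj x) b = 0 ∧ polar Q (pj x) c = 0 ∧ polar Q (pj x) d = 0 :=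
    fun x => by
      simp only [pj, polar_add_left, polar_smul_left, polar_self_zero, hab, hba, hcd, hdc, hac, had, hbc, hbd,
        hca, hda, hcb, hdb, smul_eq_mul, mul_zero, mul_one, add_zero]
      exact ⟨(by decide : ∀ p : ZMod 2, p + p = 0) _, (by decide : ∀ p : ZMod 2, p + p = 0) _,
        (by decide : ∀ p : ZMod 2, p + p = 0) _, (by decide : ∀ p : ZMod 2, p + p = 0) _⟩
  -- some projection is non-zero
  obtain ⟨x, hx⟩ : ∃ x, pj x ≠ 0 := by
    by_contra h
    push Not at h
    have hsurj : Function.Surjective fun p : (ZMod 2 × ZMod 2) × (ZMod 2 × ZMod 2) =>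
        p.1.1 • a + p.1.2 • b + p.2.1 • c + p.2.2 • d := fun x =>
      ⟨((polar Q x b, polar Q x a), (polar Q x d, polar Q x c)), by
        have e := h x
        simp only [pj, add_assoc] at e
        rw [eq_comm]
        simpa only [add_assoc] using w_eq_of_add e⟩
    have hle := Nat.card_le_card_of_surjective _ hsurj
    rw [hc, Nat.card_prod, Nat.card_prod, Nat.card_zmod] at hle
    omega
  obtain ⟨y, hy⟩ := exists_dual hQ hx
  have hperp : ∀ s, polar Q s a = 0 ∧ polar Q s b = 0 ∧ polar Q s c = 0 ∧ polar Q s d = 0 →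
      polar Q s (pj y) = polar Q s y := fun s ⟨h1, h2, h3, h4⟩ => by
    simp only [pj, polar_add_right, polar_smul_right, h1, h2, h3, h4, smul_eq_mul, mul_zero, add_zero]
  have hxy : polar Q (pj x) (pj y) = 1 := (hperp _ (hpj x)).trans hy
  obtain ⟨x1, x2, x3, x4⟩ := hpj x
  obtain ⟨y1, y2, y3, y4⟩ := hpj y
  rcases z2_cases (Q (pj x)) with qx | qx
  swap
  · exact ⟨_, qx, x1, x2, x3, x4⟩
  rcases z2_cases (Q (pj y)) with qy | qy
  swap
  · exact ⟨_, qy, y1, y2, y3, y4⟩
  refine ⟨pj x + pj y, by rw [q_add, qx, qy, hxy]; simp, ?_, ?_, ?_, ?_⟩ <;>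
    simp [polar_add_left, x1, x2, x3, x4, y1, y2, y3, y4]

variable {G : Type*} [Group G] [Finite G] {z : G}

namespace Pre

variable (P : Pre z Q) {v : W} (hv : Q v = 1)
  (himg : ∀ g : oG Q, g.1 v = v → dsign g = 1 → ∃ c, c * z = z * c ∧ P.act c = g)
  (hfix : ∀ c, c * z = z * c → (P.act c).1 v = v)
include hv himg hfix

/-- The common part of the two extraspecial groups is `{0, u}`. -/
theorem loc_small {u : W} (L : Loc P u) : ∀ e ∈ L.D, e = 0 ∨ e = u := by
  classical
  have hQ := P.nondeg
  have hv0 : Q v ≠ 0 := by rw [hv]; exact one_ne_zero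
  have hvu : v ≠ u := fun h => by rw [h, L.q_u] at hv; exact zero_ne_one hv
  have hpu : ∀ e ∈ L.D, polar Q e u = 0 := fun e he => polar_zero_of_sing L.sing he L.u_mem
  -- a product of two reflections fixing `u` and `v` preserves the meet
  have key : ∀ {w w' : W} (hw : Q w = 1) (hw' : Q w' = 1), polar Q v w = 0 → polar Q v w' = 0 →
      polar Q u w = 0 → polar Q u w' = 0 → ∀ e ∈ L.D,
      e + polar Q e w' • w' + polar Q (e + polar Q e w' • w') w • w ∈ L.D := by
    intro w w' hw hw' h1 h2 h3 h4 e he
    have n1 : Q w ≠ 0 := by rw [hw]; exact one_ne_zero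
    have n2 : Q w' ≠ 0 := by rw [hw']; exact one_ne_zero
    have hg : ∀ x, (rO n1 * rO n2).1 x = x + polar Q x w' • w' + polar Q (x + polar Q x w' • w') w • w := fun x => by
      rw [oG_mul_apply, rO_two hw', rO_two hw]
    obtain ⟨c, hc, hca⟩ := himg (rO n1 * rO n2)
      (by rw [hg, h2, zero_smul, add_zero, h1, zero_smul, add_zero])
      (by rw [dsign_mul_rO hQ _ n2, ← one_mul (rO n1), dsign_mul_rO hQ _ n1, dsign_one, neg_neg])
    have hcu : (P.act c).1 u = u := by rw [hca, hg, h4, zero_smul, add_zero, h3, zero_smul, add_zero]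
    have := (L.nrm c hc hcu).1 e he
    rwa [hca, hg] at this
  intro e0 he0
  by_contra hcon
  push Not at hcon
  obtain ⟨he00, he0u⟩ := hcon
  rcases z2_cases (polar Q u v) with huv | huv
  · -- `v` is orthogonal to `u`
    rcases z2_cases (polar Q e0 v) with hev | hev
    · obtain ⟨y, hyu, hyv, hye⟩ := exists_sep hQ (e := e0) (a := u) (b := v) fun s t h => by
        rcases z2_cases t with rfl | rfl
        · rw [zero_smul, add_zero] at h
          rcases z2_cases s with rfl | rfl
          · exact he00 (by simpa using h)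
          · exact he0u (by simpa using h)
        · have hq := L.sing e0 he0
          rw [h, one_smul] at hq
          rcases z2_cases s with rfl | rfl
          · rw [zero_smul, zero_add, hv] at hq; exact one_ne_zero hq
          · rw [one_smul, q_add, hv, huv, L.q_u, zero_add, add_zero] at hq; exact one_ne_zero hq
      obtain ⟨w, hw, hwu, hwv, hwe⟩ : ∃ w, Q w = 1 ∧ polar Q u w = 0 ∧ polar Q v w = 0 ∧ polar Q e0 w = 1 := by
        rcases z2_cases (Q y) with qy | qy
        · refine ⟨y + e0, by rw [q_add, qy, L.sing e0 he0, hye]; simp, ?_, ?_, ?_⟩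
          · rw [polar_comm, polar_add_left, hyu, hpu e0 he0, add_zero]
          · rw [polar_comm, polar_add_left, hyv, hev, add_zero]
          · rw [polar_comm, polar_add_left, hye, polar_self_zero, add_zero]
        · exact ⟨y, qy, (polar_comm _ _ _).trans hyu, (polar_comm _ _ _).trans hyv, (polar_comm _ _ _).trans hye⟩
      have h := key hw hv hwv (polar_self_zero v) hwu huv e0 he0
      rw [hev, zero_smul, add_zero, hwe, one_smul] at h
      have hwD := L.D.add_mem he0 h
      rw [← add_assoc, w_add_self, zero_add] at hwD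
      rw [L.sing w hwD] at hw
      exact zero_ne_one hw
    · obtain ⟨f, hf⟩ := exists_dual hQ L.u_ne
      set f' := f + polar Q f v • e0 + polar Q f e0 • v with hf'
      have k1 : polar Q u f' = 1 := by
        rw [hf', polar_comm, polar_add_left, polar_add_left, polar_smul_left, polar_smul_left, hpu e0 he0,
          polar_comm _ v u, huv, polar_comm _ f u, hf]
        simp
      have k2 : polar Q e0 f' = 0 := by
        rw [hf', polar_add_right, polar_add_right, polar_smul_right, polar_smul_right, polar_self_zero, hev,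
          polar_comm _ e0 f]
        simp [w_add_self]
      have k3 : polar Q v f' = 0 := by
        rw [hf', polar_add_right, polar_add_right, polar_smul_right, polar_smul_right, polar_self_zero,
          polar_comm _ v e0, hev, polar_comm _ v f]
        simp
        exact (by decide : ∀ p : ZMod 2, p + p = 0) _
      obtain ⟨w, hw, hwu, -, hwe, hwv⟩ := exists_one hQ P.sp_card k1 hev
        ((polar_comm _ _ _).trans (hpu e0 he0)) huv ((polar_comm _ _ _).trans k2) ((polar_comm _ _ _).trans k3)
      have h := key hw hv ((polar_comm _ _ _).trans hwv) (polar_self_zero v) ((polar_comm _ _ _).trans hwu) huv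
        e0 he0
      rw [hev, one_smul, polar_add_left, polar_comm _ e0 w, hwe, polar_comm _ v w, hwv, add_zero, zero_smul,
        add_zero] at h
      have hvD := L.D.add_mem he0 h
      rw [← add_assoc, w_add_self, zero_add] at hvD
      rw [L.sing v hvD] at hv
      exact zero_ne_one hv
  · -- `v` is not orthogonal to `u`
    set e := e0 + polar Q e0 v • u with he_def
    have he : e ∈ L.D := L.D.add_mem he0 (L.D.smul_mem _ L.u_mem)
    have hev : polar Q e v = 0 := by
      rw [he_def, polar_add_left, polar_smul_left, huv, smul_eq_mul, mul_one]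
      exact (by decide : ∀ p : ZMod 2, p + p = 0) _
    have heu : polar Q e u = 0 := hpu e he
    have hene : e ≠ 0 := fun h => by
      have := w_eq_of_add h
      rcases z2_cases (polar Q e0 v) with k | k <;> rw [k] at this
      · exact he00 (by simpa using this)
      · exact he0u (by simpa using this)
    obtain ⟨y, hyu, hyv, hye⟩ := exists_sep hQ (e := e) (a := u) (b := v) fun s t h => by
      have h1 := heu
      have h2 := hev
      rw [h, polar_add_left, polar_smul_left, polar_smul_left, polar_self_zero, polar_comm _ v u, huv,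
        smul_zero, zero_add, smul_eq_mul, mul_one] at h1
      rw [h, polar_add_left, polar_smul_left, polar_smul_left, polar_self_zero, huv, smul_zero, add_zero,
        smul_eq_mul, mul_one] at h2
      exact hene (by rw [h, h1, h2]; simp)
    obtain ⟨w, hw, hwu, hwv, hwe⟩ : ∃ w, Q w = 1 ∧ polar Q u w = 0 ∧ polar Q v w = 0 ∧ polar Q e w = 1 := by
      rcases z2_cases (Q y) with qy | qy
      · refine ⟨y + e, by rw [q_add, qy, L.sing e he, hye]; simp, ?_, ?_, ?_⟩
        · rw [polar_comm, polar_add_left, hyu, heu, add_zero]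
        · rw [polar_comm, polar_add_left, hyv, hev, add_zero]
        · rw [polar_comm, polar_add_left, hye, polar_self_zero, add_zero]
      · exact ⟨y, qy, (polar_comm _ _ _).trans hyu, (polar_comm _ _ _).trans hyv, (polar_comm _ _ _).trans hye⟩
    obtain ⟨w', hw', hw'u, hw'v, hw'e, hw'w⟩ := exists_one hQ P.sp_card huv hwe
      ((polar_comm _ _ _).trans heu) hwu ((polar_comm _ _ _).trans hev) hwv
    have h := key hw hw' hwv ((polar_comm _ _ _).trans hw'v) hwu ((polar_comm _ _ _).trans hw'u) e he
    rw [polar_comm _ e w', hw'e, zero_smul, add_zero, hwe, one_smul] at h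
    have hwD := L.D.add_mem he h
    rw [← add_assoc, w_add_self, zero_add] at hwD
    rw [L.sing w hwD] at hw
    exact zero_ne_one hw

/-- `z` is weakly closed in `O_2(C(z))`. -/
theorem weak_of_fixed {g : G} (hm : g * z * g⁻¹ ∈ oc z) : g * z * g⁻¹ = z := by
  classical
  haveI : Finite (oG Q) := Finite.of_injective (fun g : oG Q => ((g.1 : W → W)))
    fun g h e => Subtype.ext (DFunLike.coe_injective e)
  by_contra hne
  obtain ⟨L⟩ := P.exists_loc hm hne
  set u := P.pr (g * z * g⁻¹)
  have hsmall := P.loc_small hv himg hfix L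
  have hQ := P.nondeg
  have hDcard : Nat.card ↥L.D ≤ 2 := by
    have h1 := Nat.card_le_card_of_injective (fun x : ↥L.D => decide ((x : W) = u)) fun x y h => by
      refine Subtype.ext ?_
      rcases hsmall x x.2 with a | a <;> rcases hsmall y y.2 with b | b <;> simp [a, b, L.u_ne, L.u_ne.symm] at h ⊢
    rwa [Nat.card_eq_fintype_card (α := Bool), Fintype.card_bool] at h1
  have hI : 64 ≤ Nat.card ↥L.I := by
    have := L.card
    nlinarith
  have hxv : ∀ x ∈ L.I, x.1 v = v := fun x hx => by
    obtain ⟨c, hc, rfl⟩ := L.range x hx; exact hfix c hc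
  have hmove : ∀ x ∈ L.I, ∀ y, polar Q u y = 0 → ∃ t : ZMod 2, x.1 y = y + t • u := fun x hx y hy => by
    rcases hsmall _ (L.perp x hx y hy) with e | e
    · exact ⟨0, by rw [w_eq_of_add e, zero_smul, add_zero]⟩
    · exact ⟨1, by rw [one_smul, ← e, add_left_comm, w_add_self, add_zero]⟩
  rcases z2_cases (polar Q u v) with huv | huv
  swap
  · -- only the identity is left
    have h1 : ∀ x ∈ L.I, x = 1 := fun x hx => by
      refine Subtype.ext (LinearEquiv.ext fun y => ?_)
      show x.1 y = y
      have hy' : polar Q u (y + polar Q u y • v) = 0 := by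
        rw [polar_add_right, polar_smul_right, huv, smul_eq_mul, mul_one]
        exact (by decide : ∀ p : ZMod 2, p + p = 0) _
      obtain ⟨t, ht⟩ := hmove x hx _ hy'
      rw [map_add, map_smul, hxv x hx] at ht
      have ht0 : t = 0 := by
        have h2 := polar_oG x (y + polar Q u y • v) v
        rw [map_add, map_smul, hxv x hx, ht, polar_add_left, polar_smul_left, huv, smul_eq_mul, mul_one] at h2
        exact add_left_cancel (h2.trans (add_zero _).symm)
      rw [ht0, zero_smul, add_zero] at ht
      exact add_right_cancel ht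
    have : Nat.card ↥L.I ≤ 1 := Finite.card_le_one_iff_subsingleton.2
      ⟨fun x y => Subtype.ext ((h1 x x.2).trans (h1 y y.2).symm)⟩
    omega
  obtain ⟨w0, hw0, -, hwv⟩ : ∃ w0, polar Q u w0 = 1 ∧ polar Q w0 v = 0 ∧ polar Q v w0 = 0 := by
    obtain ⟨y, h1, -, h3⟩ := exists_sep hQ (e := u) (a := v) (b := v) fun s t h => by
      rw [← add_smul] at h
      rcases z2_cases (s + t) with k | k <;> rw [k] at h
      · exact L.u_ne (by simpa using h)
      · have := L.q_u; rw [show u = v by simpa using h, hv] at this; exact one_ne_zero this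
    exact ⟨y, (polar_comm _ _ _).trans h3, h1, (polar_comm _ _ _).trans h1⟩
  let H := {y : W // polar Q y u = 0 ∧ polar Q y v = 0}
  have hH : Nat.card H * 4 = 256 := by
    obtain ⟨b, hb1, -, hb2⟩ := exists_sep hQ (e := v) (a := u) (b := u) fun s t h => by
      rw [← add_smul] at h
      rcases z2_cases (s + t) with k | k <;> rw [k] at h
      · rw [show v = 0 by simpa using h, map_zero] at hv; exact zero_ne_one hv
      · rw [show v = u by simpa using h, L.q_u] at hv; exact zero_ne_one hv
    have hw0u : polar Q w0 u = 1 := (polar_comm _ _ _).trans hw0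
    have hw0v : polar Q w0 v = 0 := (polar_comm _ _ _).trans hwv
    let f : W ≃ H × (ZMod 2 × ZMod 2) :=
      { toFun := fun y => (⟨y + polar Q y u • w0 + polar Q y v • b, by
          simp only [polar_add_left, polar_smul_left, hw0u, hw0v, hb1, hb2, smul_eq_mul, mul_one, mul_zero,
            add_zero]
          exact ⟨(by decide : ∀ p : ZMod 2, p + p = 0) _, (by decide : ∀ p : ZMod 2, p + p = 0) _⟩⟩,
            polar Q y u, polar Q y v)
        invFun := fun p => p.1.1 + p.2.1 • w0 + p.2.2 • b
        left_inv := fun y => by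
          show y + polar Q y u • w0 + polar Q y v • b + polar Q y u • w0 + polar Q y v • b = y
          calc _ = y + (polar Q y u • w0 + polar Q y u • w0) + (polar Q y v • b + polar Q y v • b) := by abel
            _ = y := by rw [w_add_self, w_add_self, add_zero, add_zero]
        right_inv := fun p => by
          obtain ⟨⟨y, hy1, hy2⟩, s, t⟩ := p
          have e1 : polar Q (y + s • w0 + t • b) u = s := by
            simp [polar_add_left, polar_smul_left, hy1, hw0u, hb1]
          have e2 : polar Q (y + s • w0 + t • b) v = t := by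
            simp [polar_add_left, polar_smul_left, hy2, hw0v, hb2]
          refine Prod.ext (Subtype.ext ?_) (Prod.ext e1 e2)
          show y + s • w0 + t • b + polar Q (y + s • w0 + t • b) u • w0 +
            polar Q (y + s • w0 + t • b) v • b = y
          rw [e1, e2]
          calc _ = y + (s • w0 + s • w0) + (t • b + t • b) := by abel
            _ = y := by rw [w_add_self, w_add_self, add_zero, add_zero] }
    have := Nat.card_congr f
    rw [P.sp_card, Nat.card_prod, Nat.card_prod, Nat.card_zmod] at this
    omega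
  -- the displacement of `w0` determines an element, and takes half of the possible values
  have hp : ∀ x ∈ L.I, polar Q (x.1 w0 + w0) u = 0 ∧ polar Q (x.1 w0 + w0) v = 0 ∧
      Q (x.1 w0 + w0) = polar Q (x.1 w0 + w0) w0 := fun x hx => by
    refine ⟨?_, ?_, ?_⟩
    · rw [polar_add_left]
      conv_lhs => enter [1, 3]; rw [← L.fix x hx]
      rw [polar_oG]; exact (by decide : ∀ p : ZMod 2, p + p = 0) _
    · rw [polar_add_left]
      conv_lhs => enter [1, 3]; rw [← hxv x hx]
      rw [polar_oG]; exact (by decide : ∀ p : ZMod 2, p + p = 0) _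
    · rw [q_add, show Q (x.1 w0) = Q w0 from x.2 w0, polar_add_left, polar_self_zero, add_zero]
      exact (by decide : ∀ a c : ZMod 2, a + a + c = c) _ _
  let F : ↥L.I × Bool → H := fun p =>
    if p.2 then ⟨p.1.1.1 w0 + w0 + u, by
      obtain ⟨a1, a2, -⟩ := hp _ p.1.2
      constructor <;> rw [polar_add_left, polar_add_left]
      · rw [← polar_add_left, a1, polar_self_zero, add_zero]
      · rw [← polar_add_left, a2, huv, add_zero]⟩
    else ⟨p.1.1.1 w0 + w0, (hp _ p.1.2).1, (hp _ p.1.2).2.1⟩
  have hsame : ∀ x ∈ L.I, ∀ x' ∈ L.I, x.1 w0 + w0 = x'.1 w0 + w0 → x = x' := fun x hx x' hx' e => by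
    refine Subtype.ext (LinearEquiv.ext fun y => ?_)
    have e' : x.1 w0 = x'.1 w0 := add_right_cancel e
    have hy' : polar Q u (y + polar Q u y • w0) = 0 := by
      rw [polar_add_right, polar_smul_right, hw0, smul_eq_mul, mul_one]
      exact (by decide : ∀ p : ZMod 2, p + p = 0) _
    obtain ⟨t, ht⟩ := hmove x hx _ hy'
    obtain ⟨t', ht'⟩ := hmove x' hx' _ hy'
    have htt : t = t' := by
      have h2 := polar_oG x (y + polar Q u y • w0) w0
      have h3 := polar_oG x' (y + polar Q u y • w0) w0
      have hu1 : polar Q u (x.1 w0) = 1 := by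
        conv_lhs => enter [2]; rw [← L.fix x hx]
        rw [polar_oG, hw0]
      rw [ht, polar_add_left, polar_smul_left, hu1, smul_eq_mul, mul_one] at h2
      rw [ht', ← e', polar_add_left, polar_smul_left, hu1, smul_eq_mul, mul_one] at h3
      exact add_left_cancel (h2.trans h3.symm)
    rw [htt, ← ht', map_add, map_add, map_smul, map_smul, e'] at ht
    exact add_right_cancel ht
  have hinj : Function.Injective F := by
    rintro ⟨⟨x, hx⟩, i⟩ ⟨⟨x', hx'⟩, j⟩ e
    have e1 := congrArg Subtype.val e
    have key : ∀ x ∈ L.I, ∀ x' ∈ L.I, x.1 w0 + w0 ≠ x'.1 w0 + w0 + u := fun x hx x' hx' h => by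
      have k := (hp x hx).2.2
      rw [h, q_add, (hp x' hx').1, L.q_u, polar_add_left _ _ u, hw0, add_zero, add_zero, (hp x' hx').2.2] at k
      exact one_ne_zero (add_left_cancel (k.symm.trans (add_zero _).symm))
    cases i <;> cases j <;> simp only [F, if_true, if_false, Bool.false_eq_true, ↓reduceIte] at e1
    · simp only [hsame x hx x' hx' e1]
    · exact absurd e1 (key x hx x' hx')
    · exact absurd e1.symm (key x' hx' x hx)
    · simp only [hsame x hx x' hx' (add_right_cancel e1)]
  have h1 := Nat.card_le_card_of_injective F hinj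
  rw [Nat.card_prod, Nat.card_eq_fintype_card (α := Bool), Fintype.card_bool] at h1
  omega

end Pre

end Cfsg.Agent.CoTwoType
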