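import Cfsg.Agent.LargeExtra.SingularSubgroup
import Cfsg.Agent.Classical.OrthSpinor

/-!
An involution whose centraliser has an extraspecial `O_2` of order `2^9`, with the projection to an
eight-dimensional quadratic space; the local data attached to a second conjugate inside `O_2(C(z))`.
-/

set_option autoImplicit false
set_option linter.unusedSectionVars false

open Cfsg Subgroup QuadraticMap Cfsg.Agent.Classical.Quad Cfsg.Agent.LargeExtra

namespace Cfsg.Agent.CoTwoType

variable {G : Type*} [Group G] [Finite G]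
variable {W : Type*} [AddCommGroup W] [Module (ZMod 2) W] [Finite W]

theorem z2_cases : ∀ c : ZMod 2, c = 0 ∨ c = 1 := by decide

/-- The power of `z` with an exponent modulo two. -/
def pz (z : G) (a : ZMod 2) : G := if a = 0 then 1 else z

/-- The projection of `O_2(C(z))` and the action of the centraliser. -/
structure Pre (z : G) (Q : QuadraticForm (ZMod 2) W) where
  sett : Setting z
  card : Nat.card ↥(oc z) = 2 ^ 9
  sp_card : Nat.card W = 256
  nondeg : (polarBilin Q).Nondegenerate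
  /-- the projection -/
  pr : G → W
  pr_mul : ∀ a ∈ oc z, ∀ b ∈ oc z, pr (a * b) = pr a + pr b
  pr_ker : ∀ a ∈ oc z, pr a = 0 → a = 1 ∨ a = z
  pr_z : pr z = 0
  pr_surj : ∀ v, ∃ a ∈ oc z, pr a = v
  pr_sq : ∀ a ∈ oc z, a * a = pz z (Q (pr a))
  /-- the action -/
  act : G → oG Q
  act_spec : ∀ c, c * z = z * c → ∀ a ∈ oc z, pr (c * a * c⁻¹) = (act c).1 (pr a)
  act_even : ∀ c, c * z = z * c → dsign (act c) = 1
  act_ker : ∀ c, c * z = z * c → act c = 1 → c ∈ oc z

theorem w_add_self (x : W) : x + x = 0 := ZModModule.add_self x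

theorem w_eq_of_add {x y : W} (h : x + y = 0) : x = y :=
  (add_eq_zero_iff_eq_neg.1 h).trans (ZModModule.neg_eq_self y)

namespace Pre

variable {z : G} {Q : QuadraticForm (ZMod 2) W} (P : Pre z Q)
include P

theorem zmem : z ∈ oc z := mem_oc_self P.sett.ord

theorem comm {a : G} (ha : a ∈ oc z) : a * z = z * a := (P.sett.comm_z ha).eq

theorem pr_one : P.pr 1 = 0 :=
  add_eq_left.1 (by rw [← P.pr_mul 1 (one_mem _) 1 (one_mem _), one_mul])

theorem pr_inv {a : G} (ha : a ∈ oc z) : P.pr a⁻¹ = P.pr a := by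
  refine w_eq_of_add ?_
  rw [← P.pr_mul _ (inv_mem ha) _ ha, inv_mul_cancel, P.pr_one]

theorem nrm {c a : G} (hc : c * z = z * c) (ha : a ∈ oc z) : c * a * c⁻¹ ∈ oc z :=
  oc_conj_mem (mem_centralizer_singleton_iff.2 hc) ha

theorem pr_pm {a : G} (ha : a = 1 ∨ a = z) : P.pr a = 0 := by
  rcases ha with rfl | rfl
  exacts [P.pr_one, P.pr_z]

theorem act_inner {a : G} (ha : a ∈ oc z) : P.act a = 1 := by
  refine Subtype.ext (LinearEquiv.ext fun x => ?_)
  obtain ⟨b, hb, rfl⟩ := P.pr_surj x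
  rw [← P.act_spec a (P.comm ha) b hb, P.pr_mul _ (mul_mem ha hb) _ (inv_mem ha), P.pr_mul a ha b hb,
    P.pr_inv ha, add_comm (P.pr a), add_assoc, w_add_self, add_zero]
  rfl

theorem act_mul {c d : G} (hc : c * z = z * c) (hd : d * z = z * d) :
    P.act (c * d) = P.act c * P.act d := by
  refine Subtype.ext (LinearEquiv.ext fun x => ?_)
  obtain ⟨b, hb, rfl⟩ := P.pr_surj x
  have hcd : c * d * z = z * (c * d) := Commute.mul_left hc hd
  show (P.act (c * d)).1 (P.pr b) = (P.act c).1 ((P.act d).1 (P.pr b))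
  rw [← P.act_spec d hd b hb, ← P.act_spec c hc _ (P.nrm hd hb), ← P.act_spec _ hcd b hb]
  congr 1
  group

theorem act_inv {c : G} (hc : c * z = z * c) : P.act c⁻¹ = (P.act c)⁻¹ := by
  refine (inv_eq_of_mul_eq_one_right ?_).symm
  rw [← P.act_mul hc (Commute.inv_left hc).eq, mul_inv_cancel, P.act_inner (one_mem _)]

theorem sq_cases {a : G} (ha : a ∈ oc z) : a * a = 1 ∨ a * a = z := by
  rw [P.pr_sq a ha, pz]
  split_ifs
  exacts [Or.inl rfl, Or.inr rfl]

theorem q_zero {a : G} (ha : a ∈ oc z) (h : a * a = 1) : Q (P.pr a) = 0 := by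
  by_contra hne
  rw [P.pr_sq a ha, pz, if_neg hne] at h
  exact P.sett.ne_one h

/-- Orthogonal vectors have commuting preimages. -/
theorem commute_of {a b : G} (ha : a ∈ oc z) (hb : b ∈ oc z) (h : polar Q (P.pr a) (P.pr b) = 0) :
    a * b = b * a := by
  have hq : Q (P.pr (a * b)) = Q (P.pr a) + Q (P.pr b) := by
    rw [P.pr_mul a ha b hb]
    have h' : Q (P.pr a + P.pr b) - Q (P.pr a) - Q (P.pr b) = 0 := h
    exact (by decide : ∀ x y w : ZMod 2, x - y - w = 0 → x = y + w) _ _ _ h'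
  have hzz := P.sett.sq_one
  have h1 := P.pr_sq (a * b) (mul_mem ha hb)
  rw [hq] at h1
  have h2 : pz z (Q (P.pr a) + Q (P.pr b)) = (a * a) * (b * b) := by
    rw [P.pr_sq a ha, P.pr_sq b hb]
    generalize Q (P.pr a) = x
    generalize Q (P.pr b) = y
    revert x y
    simp only [pz]
    intro x y
    fin_cases x <;> fin_cases y <;> simp [hzz] <;> rfl
  rw [h2] at h1
  simp only [mul_assoc] at h1
  have h3 := mul_left_cancel h1
  rw [← mul_assoc, ← mul_assoc] at h3
  exact (mul_right_cancel h3).symm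

end Pre

/-- The data attached to a second conjugate in `O_2(C(z))`. -/
structure Loc {z : G} {Q : QuadraticForm (ZMod 2) W} (P : Pre z Q) (u : W) where
  u_ne : u ≠ 0
  q_u : Q u = 0
  /-- the image of the meet of the two extraspecial groups -/
  D : Submodule (ZMod 2) W
  u_mem : u ∈ D
  sing : ∀ e ∈ D, Q e = 0
  /-- the image of the centraliser in the second group -/
  I : Subgroup (oG Q)
  card : Nat.card ↥I * Nat.card ↥D = 128
  range : ∀ x ∈ I, ∃ c, c * z = z * c ∧ P.act c = x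
  sq : ∀ x ∈ I, x * x = 1
  fix : ∀ x ∈ I, x.1 u = u
  perp : ∀ x ∈ I, ∀ y, polar Q u y = 0 → x.1 y + y ∈ D
  low : ∀ x ∈ I, ∀ e ∈ D, x.1 e + e = 0 ∨ x.1 e + e = u
  nrm : ∀ c, c * z = z * c → (P.act c).1 u = u →
    (∀ e ∈ D, (P.act c).1 e ∈ D) ∧ ∀ x ∈ I, P.act c * x * (P.act c)⁻¹ ∈ I
  kill : (∀ x ∈ I, ∀ e ∈ D, x.1 e = e) → Nat.card ↥D = 2

/-- A non-central element has a centraliser of index two in `O_2(C(s))`. -/
theorem card_cent {s w : G} (S : Setting s) (hw : w ∈ oc s) (hw1 : w ≠ 1) (hws : w ≠ s) :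
    2 * Nat.card ↥(oc s ⊓ centralizer ({w} : Set G) : Subgroup G) = Nat.card ↥(oc s) := by
  classical
  set A := oc s ⊓ centralizer ({w} : Set G)
  obtain ⟨y, hy, hyw⟩ := S.exists_mover hw hw1 hws
  have hcases : ∀ a ∈ oc s, a ∉ centralizer ({w} : Set G) → a * w * a⁻¹ = w * s := fun a ha hna => by
    rcases S.commutator_cases ha hw with e | e
    · exact absurd (mem_centralizer_singleton_iff.2 (mul_inv_eq_iff_eq_mul.1 (mul_inv_eq_one.1 e))) hna
    · rw [mul_inv_eq_iff_eq_mul.1 e, (S.comm_z hw).eq]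
  have hm : ∀ a ∈ oc s, a ∉ centralizer ({w} : Set G) → y⁻¹ * a ∈ A := fun a ha hna =>
    mem_inf.2 ⟨mul_mem (inv_mem hy) ha, mem_centralizer_singleton_iff.2 (by
      have e1 := hcases a ha hna
      calc y⁻¹ * a * w = y⁻¹ * (a * w * a⁻¹) * a := by group
        _ = w * (y⁻¹ * a) := by rw [e1, ← hyw]; group)⟩
  have key := Nat.card_le_card_of_injective (fun a : ↥(oc s) =>
    if ha : (a : G) ∈ centralizer ({w} : Set G) then ((⟨a, mem_inf.2 ⟨a.2, ha⟩⟩ : ↥A), false)
    else (⟨y⁻¹ * a, hm a a.2 ha⟩, true)) (by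
      intro a b e
      dsimp only at e
      split_ifs at e <;> simp_all)
  rw [Nat.card_prod, Nat.card_eq_fintype_card (α := Bool), Fintype.card_bool] at key
  obtain ⟨k, hk⟩ := Subgroup.card_dvd_of_le (inf_le_left : A ≤ oc s)
  have hyA : y ∉ A := fun h => by
    rw [mem_centralizer_singleton_iff.1 h.2, mul_inv_cancel_right] at hyw
    exact S.ne_one (mul_eq_left.1 hyw.symm)
  have hk2 : k ≤ 2 := Nat.le_of_mul_le_mul_left (hk ▸ key) Nat.card_pos
  rcases (show k = 0 ∨ k = 1 ∨ k = 2 by omega) with rfl | rfl | rfl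
  · exact absurd (hk.trans (mul_zero _)) Nat.card_pos.ne'
  · refine absurd ?_ hyA
    have e : A = oc s := Subgroup.eq_of_le_of_card_ge (inf_le_left : A ≤ oc s) (by rw [hk, mul_one])
    rw [e]; exact hy
  · exact (mul_comm _ _).trans hk.symm

namespace Pre

variable {z : G} {Q : QuadraticForm (ZMod 2) W} (P : Pre z Q)
include P

/-- A conjugate of `z` in `O_2(C(z))` gives the local data. -/
theorem exists_loc {g : G} (hm : g * z * g⁻¹ ∈ oc z) (hne : g * z * g⁻¹ ≠ z) :
    Nonempty (Loc P (P.pr (g * z * g⁻¹))) := by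
  classical
  have : Fact (Nat.Prime 2) := ⟨Nat.prime_two⟩
  set s := g * z * g⁻¹ with hsdef
  have S' : Setting s := P.sett.conj g
  have hzs : z ∈ oc s := P.sett.symm hm
  have hzz := P.sett.sq_one
  have hss : s * s = 1 := S'.sq_one
  have hsz : s * z = z * s := P.comm hm
  have hsq' : ∀ a ∈ oc s, a * a = 1 ∨ a * a = s := fun a ha =>
    S'.center_cases (mul_mem ha ha) fun p hp => by
      have h1 := Fusion.es_pow_mem_center S'.es (⟨a, ha⟩ : ↥(oc s))
      have h2 := congrArg Subtype.val (mem_center_iff.1 h1 ⟨p, hp⟩)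
      simp only [pow_two, Subgroup.coe_mul] at h2
      exact h2
  have hs1 : ∀ {a : G}, (a = 1 ∨ a = z) → (a = 1 ∨ a = s) → a = 1 := by
    rintro a (rfl | rfl) (h | h)
    exacts [rfl, rfl, h, absurd h.symm hne]
  set u := P.pr s with hu
  have u_ne : u ≠ 0 := fun h => by
    rcases P.pr_ker s hm h with e | e
    · exact S'.ne_one e
    · exact hne e
  set D0 : Subgroup G := oc z ⊓ oc s with hD0
  set A : Subgroup G := oc s ⊓ centralizer ({z} : Set G) with hA
  have hAz : ∀ {a}, a ∈ A → a * z = z * a := fun ha => mem_centralizer_singleton_iff.1 ha.2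
  have hAs : ∀ {a}, a ∈ A → a * s = s * a := fun ha => (S'.comm_z ha.1).eq
  have hDA : D0 ≤ A := fun a ha => ⟨ha.2, mem_centralizer_singleton_iff.2 (P.comm ha.1)⟩
  let D : Submodule (ZMod 2) W :=
    { carrier := {w | ∃ e ∈ D0, P.pr e = w}
      zero_mem' := ⟨1, one_mem _, P.pr_one⟩
      add_mem' := by
        rintro _ _ ⟨e, he, rfl⟩ ⟨f, hf, rfl⟩
        exact ⟨e * f, mul_mem he hf, P.pr_mul e he.1 f hf.1⟩
      smul_mem' := by
        rintro c _ ⟨e, he, rfl⟩
        rcases z2_cases c with rfl | rfl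
        · rw [zero_smul]; exact ⟨1, one_mem _, P.pr_one⟩
        · rw [one_smul]; exact ⟨e, he, rfl⟩ }
  let φ : ↥A →* oG Q := MonoidHom.mk' (fun a => P.act a) fun a b => P.act_mul (hAz a.2) (hAz b.2)
  -- the centraliser in the second group has index two
  have hAcard : Nat.card ↥A = 256 := by
    have h2 : Nat.card ↥(oc s) = 512 := by
      rw [hsdef, ← oc_map_conj, card_map_of_injective (MulAut.conj g).injective, P.card]
      rfl
    have := card_cent S' hzs P.sett.ne_one (Ne.symm hne)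
    rw [h2] at this
    exact Nat.eq_of_mul_eq_mul_left two_pos (this.trans (show (512 : ℕ) = 2 * 256 from rfl))
  -- the kernel of the action
  have hker : φ.ker = D0.subgroupOf A := by
    ext a
    rw [MonoidHom.mem_ker, mem_subgroupOf]
    exact ⟨fun h => ⟨P.act_ker a (hAz a.2) h, a.2.1⟩, fun h => P.act_inner h.1⟩
  have hcardI : Nat.card ↥φ.range * Nat.card ↥D0 = 256 := by
    rw [← hAcard, ← Subgroup.card_mul_index φ.ker, index_ker, hker,
      Nat.card_congr (subgroupOfEquivOfLe hDA).toEquiv, mul_comm]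
  have hcardD : Nat.card ↥D0 = 2 * Nat.card ↥D := by
    let ψ : ↥D0 →* Multiplicative W := MonoidHom.mk' (fun e => Multiplicative.ofAdd (P.pr e))
      fun e f => congrArg Multiplicative.ofAdd (P.pr_mul _ e.2.1 _ f.2.1)
    have hzD : z ∈ D0 := ⟨P.zmem, hzs⟩
    have hk : ψ.ker = (zpowers z).subgroupOf D0 := by
      ext e
      rw [MonoidHom.mem_ker, mem_subgroupOf]
      constructor
      · intro h
        rcases P.pr_ker e e.2.1 h with e' | e' <;> rw [e']
        exacts [one_mem _, mem_zpowers z]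
      · intro h
        obtain ⟨k, hk⟩ := mem_zpowers_iff.1 h
        refine congrArg Multiplicative.ofAdd (P.pr_pm ?_)
        rcases Int.even_or_odd' k with ⟨j, rfl | rfl⟩
        · left; rw [← hk, zpow_mul, zpow_two, hzz, one_zpow]
        · right; rw [← hk, zpow_add_one, zpow_mul, zpow_two, hzz, one_zpow, one_mul]
    have hr : Nat.card ↥ψ.range = Nat.card ↥D :=
      Nat.card_congr (Equiv.subtypeEquiv Multiplicative.toAdd fun w =>
        ⟨fun ⟨e, he⟩ => ⟨e, e.2, congrArg Multiplicative.toAdd he⟩,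
          fun ⟨e, he, h⟩ => ⟨⟨e, he⟩, congrArg Multiplicative.ofAdd h⟩⟩)
    have h1 := Subgroup.card_mul_index ψ.ker
    rw [index_ker, hk, Nat.card_congr (subgroupOfEquivOfLe (zpowers_le.2 hzD)).toEquiv, Nat.card_zpowers,
      P.sett.ord, hr] at h1
    exact h1.symm
  refine ⟨{
    u_ne := u_ne
    q_u := P.q_zero hm hss
    D := D
    u_mem := ⟨s, ⟨hm, mem_oc_self S'.ord⟩, rfl⟩
    sing := ?_
    I := φ.range
    card := by rw [hcardD] at hcardI; linarith
    range := fun x ⟨a, ha⟩ => ⟨a, hAz a.2, ha⟩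
    sq := ?_
    fix := ?_
    perp := ?_
    low := ?_
    nrm := ?_
    kill := ?_ }⟩
  · rintro _ ⟨e, he, rfl⟩
    exact P.q_zero he.1 (hs1 (P.sq_cases he.1) (hsq' e he.2))
  · rintro _ ⟨a, rfl⟩
    show P.act a * P.act a = 1
    rw [← P.act_mul (hAz a.2) (hAz a.2)]
    rcases hsq' a a.2.1 with e | e <;> rw [e]
    exacts [P.act_inner (one_mem _), P.act_inner hm]
  · rintro _ ⟨a, rfl⟩
    show (P.act a).1 (P.pr s) = P.pr s
    rw [← P.act_spec a (hAz a.2) s hm, hAs a.2, mul_inv_cancel_right]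
  · rintro _ ⟨b, rfl⟩ y hy
    obtain ⟨a, ha, rfl⟩ := P.pr_surj y
    have has : s * a = a * s := P.commute_of hm ha hy
    have hm' : (b : G) * a * (b : G)⁻¹ * a⁻¹ ∈ D0 := by
      refine mem_inf.2 ⟨mul_mem (P.nrm (hAz b.2) ha) (inv_mem ha), ?_⟩
      rw [mul_assoc (b : G), mul_assoc (b : G)]
      exact mul_mem b.2.1 (oc_conj_mem (mem_centralizer_singleton_iff.2 has.symm) (inv_mem b.2.1))
    refine ⟨_, hm', ?_⟩
    rw [P.pr_mul _ (P.nrm (hAz b.2) ha) _ (inv_mem ha), P.pr_inv ha, P.act_spec b (hAz b.2) a ha]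
    rfl
  · rintro _ ⟨b, rfl⟩ _ ⟨e, he, rfl⟩
    have h1 : P.pr ((b : G) * e * (b : G)⁻¹ * e⁻¹) = (P.act b).1 (P.pr e) + P.pr e := by
      rw [P.pr_mul _ (P.nrm (hAz b.2) he.1) _ (inv_mem he.1), P.pr_inv he.1, P.act_spec b (hAz b.2) e he.1]
    show (P.act b).1 (P.pr e) + P.pr e = 0 ∨ (P.act b).1 (P.pr e) + P.pr e = u
    rw [← h1]
    rcases S'.commutator_cases b.2.1 he.2 with h | h <;> rw [h]
    exacts [Or.inl P.pr_one, Or.inr rfl]
  · intro c hc hcu
    obtain ⟨d, hd, hds, hdact⟩ : ∃ d, d * z = z * d ∧ d * s = s * d ∧ P.act d = P.act c := by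
      have h1 : P.pr (c * s * c⁻¹) = u := by rw [P.act_spec c hc s hm]; exact hcu
      have hcm := P.nrm hc hm
      rcases P.pr_ker (c * s * c⁻¹ * s⁻¹) (mul_mem hcm (inv_mem hm))
        (by rw [P.pr_mul _ hcm _ (inv_mem hm), P.pr_inv hm, h1, w_add_self]) with e | e
      · exact ⟨c, hc, mul_inv_eq_iff_eq_mul.1 (mul_inv_eq_one.1 e), rfl⟩
      · obtain ⟨y, hy, hys⟩ := P.sett.exists_mover hm S'.ne_one hne
        have hdz : y * c * z = z * (y * c) := Commute.mul_left (P.comm hy) hc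
        refine ⟨y * c, hdz, ?_, by rw [P.act_mul (P.comm hy) hc, P.act_inner hy, one_mul]⟩
        refine mul_inv_eq_iff_eq_mul.1 ?_
        calc y * c * s * (y * c)⁻¹ = y * (c * s * c⁻¹) * y⁻¹ := by group
          _ = y * (z * s) * y⁻¹ := by rw [mul_inv_eq_iff_eq_mul.1 e]
          _ = z * (y * s * y⁻¹) := by rw [← mul_assoc y z, P.comm hy]; group
          _ = s := by rw [hys, hsz, ← mul_assoc, hzz, one_mul]
    have hdi : ∀ {a}, a ∈ oc s → d * a * d⁻¹ ∈ oc s := fun ha =>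
      oc_conj_mem (mem_centralizer_singleton_iff.2 hds) ha
    rw [← hdact]
    constructor
    · rintro _ ⟨e, he, rfl⟩
      exact ⟨d * e * d⁻¹, ⟨P.nrm hd he.1, hdi he.2⟩, P.act_spec d hd e he.1⟩
    · rintro _ ⟨a, rfl⟩
      have haz : d * (a : G) * d⁻¹ ∈ A := ⟨hdi a.2.1, mem_centralizer_singleton_iff.2
        (Commute.mul_left (Commute.mul_left hd (hAz a.2)) (Commute.inv_left hd)).eq⟩
      refine ⟨⟨_, haz⟩, ?_⟩
      show P.act (d * a * d⁻¹) = P.act d * P.act a * (P.act d)⁻¹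
      rw [P.act_mul (Commute.mul_left hd (hAz a.2)).eq (Commute.inv_left hd).eq, P.act_mul hd (hAz a.2),
        P.act_inv hd]
  · intro hkill
    set H : Subgroup G := closure {z, s} with hH
    have hprH : ∀ {h}, h ∈ H → h ∈ oc z ∧ (P.pr h = 0 ∨ P.pr h = u) := fun hh => by
      induction hh using closure_induction with
      | mem x hx => rcases hx with rfl | rfl; exacts [⟨P.zmem, Or.inl P.pr_z⟩, ⟨hm, Or.inr rfl⟩]
      | one => exact ⟨one_mem _, Or.inl P.pr_one⟩
      | mul x y _ _ h1 h2 =>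
        refine ⟨mul_mem h1.1 h2.1, ?_⟩
        rw [P.pr_mul x h1.1 y h2.1]
        rcases h1.2 with e | e <;> rcases h2.2 with f | f <;> rw [e, f] <;> simp [w_add_self]
      | inv x _ h1 => exact ⟨inv_mem h1.1, by rw [P.pr_inv h1.1]; exact h1.2⟩
    have hHs : H ≤ oc s := (closure_le _).2 (by
      rintro x (rfl | rfl); exacts [hzs, mem_oc_self S'.ord])
    have hDH : ∀ e ∈ D0, e ∈ H := fun e he => by
      by_contra hne'
      obtain ⟨q, hq, hqH, hqe⟩ :=
        S'.exists_mover_fixing hHs (subset_closure (Or.inr rfl)) he.2 hne'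
      have hqA : q ∈ A := ⟨hq, mem_centralizer_singleton_iff.2 (hqH z (subset_closure (Or.inl rfl))).eq⟩
      have hc1 : q * e * q⁻¹ * e⁻¹ = s := by rw [hqe, mul_inv_cancel_right]
      have h2 : P.pr (q * e * q⁻¹ * e⁻¹) = 0 := by
        rw [P.pr_mul _ (P.nrm (hAz hqA) he.1) _ (inv_mem he.1), P.pr_inv he.1,
          P.act_spec q (hAz hqA) e he.1,
          show (P.act q).1 (P.pr e) = P.pr e from hkill _ ⟨⟨q, hqA⟩, rfl⟩ _ ⟨e, he, rfl⟩, w_add_self]
      rw [hc1] at h2
      exact u_ne h2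
    have hDu : (D : Set W) = {0, u} := by
      ext w
      constructor
      · rintro ⟨e, he, rfl⟩; exact (hprH (hDH e he)).2
      · rintro (rfl | rfl); exacts [D.zero_mem, ⟨s, ⟨hm, mem_oc_self S'.ord⟩, rfl⟩]
    show Nat.card ↥(D : Set W) = 2
    rw [hDu, Nat.card_coe_set_eq, Set.ncard_pair u_ne.symm]

end Pre

end Cfsg.Agent.CoTwoType
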