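import Cfsg.Agent.CoTwoType.Code
import Cfsg.Agent.CoTwoType.Clifford

/-!
Finite facts on the stabiliser of the code `1` in the spin representation: the seven transvections
fixing it, their sixty-four products, seven further products of three transvections, and the subspace
`{0, 1, 2, 4, 128}`.
-/

set_option autoImplicit false
set_option maxRecDepth 100000

open Cfsg.Agent.CoOneType

namespace Cfsg.Agent.CoTwoType

/-- The transvections fixing the code `1`. -/
def lag : List (Fin 64) := [8, 16, 24, 32, 40, 48, 56]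

/-- Products fixing the code `1`. -/
def stabW : List (List (Fin 64)) :=
  [[8], [16], [24], [32], [40], [48], [56], [15, 40, 63], [1, 9, 49], [8, 36, 60], [8, 23, 63],
   [8, 19, 51], [18, 26, 32], [6, 56, 62]]

/-- The action of a product. -/
def wd (w : List (Fin 64)) (v : ℕ) : ℕ := w.foldr (fun a x => tn a.val x) v

/-- The action of a product on transvections. -/
def wS (w : List (Fin 64)) (a : Fin 64) : Fin 64 := w.foldr tS a

/-- Six independent transvections fixing `1`, with their positions. -/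
def rbase : List (ℕ × Fin 64) := [(0, 8), (1, 16), (2, 32), (3, 24), (4, 48), (5, 40)]

/-- The product of the selected ones. -/
def rn (m v : ℕ) : ℕ := rbase.foldr (fun p x => if m.testBit p.1 then tn p.2.val x else x) v

/-- The position of a transvection fixing `1` among the products. -/
def mcode (a : Fin 64) : ℕ :=
  if a = 8 then 1 else if a = 16 then 2 else if a = 32 then 4 else if a = 24 then 8
  else if a = 48 then 16 else if a = 40 then 32 else if a = 56 then 63 else 0

/-- Conjugation of the products by a word. -/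
def cm (w : List (Fin 64)) (m : ℕ) : ℕ :=
  rbase.foldr (fun p x => (if m.testBit p.1 then mcode (wS w p.2) else 0) ^^^ x) 0

/-- The span of a list of codes. -/
def spanL (l : List ℕ) : List ℕ :=
  l.foldl (fun S m => if m ∈ S then S else S ++ S.map (· ^^^ m)) [0]

/-- The subspace. -/
def u0L : List ℕ := spanL [1, 2, 4, 128]

/-- The products fixing it pointwise. -/
def altL : List ℕ := [0, 11, 22, 29, 37, 46, 51, 56]

/-- The images of `16` under the products. -/
def tab16 : List ℕ :=
  [16, 48, 80, 240, 24, 60, 90, 255, 112, 208, 176, 144, 126, 219, 189, 153, 88, 252, 26, 63, 82,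
   243, 18, 51, 190, 155, 125, 217, 179, 146, 115, 210, 56, 28, 250, 95, 52, 20, 245, 85, 222, 123,
   157, 185, 213, 117, 148, 180, 246, 87, 55, 22, 249, 93, 59, 30, 150, 183, 215, 118, 159, 186, 220, 120]

/-- The way from the code `16` to a bit. -/
def bseq : ℕ → List (Fin 64)
  | 0 => [8, 16, 32]
  | 1 => [16, 32]
  | 2 => [8, 32]
  | 3 => [32]
  | 5 => [8]
  | 6 => [16]
  | 7 => [8, 16]
  | _ => []

/-- The image of a bit under an element commuting with the transvections fixing `1`. -/
def col (c i : ℕ) : ℕ := (bseq i).foldl (fun x a => tn a.val x ^^^ x) c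

theorem lag_fix : ∀ a : Fin 64, a ≠ 0 → (tn a.val 1 = 1 ↔ a ∈ lag) := by decide +kernel

theorem stabW_fix : ∀ w ∈ stabW, wd w 1 = 1 ∧ ∀ a ∈ w, (a : Fin 64) ≠ 0 := by decide +kernel

theorem stabW_lag : ∀ w ∈ stabW, ∀ p ∈ rbase, wS w p.2 ∈ lag ∧ p.2 ≠ 0 := by decide +kernel

theorem rn_single : ∀ a ∈ lag, ∀ i : Fin 8, rn (mcode a) (2 ^ i.val) = tn a.val (2 ^ i.val) := by decide +kernel

theorem lag_pair : ∀ a ∈ lag, ∀ b ∈ lag, a ≠ b → mcode a ^^^ mcode b ∉ altL ∧ mcode a ^^^ mcode b < 64 := by
  decide +kernel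

theorem meet_small : ∀ y : Fin 256, qn y.val = false → Bn 1 y.val = false →
    y.val ∈ u0L ∨ ∃ w ∈ stabW, Bn y.val (wd w y.val) = true := by decide +kernel

theorem spanU_lt : ∀ y ∈ u0L, ∀ x ∈ spanL (1 :: y :: stabW.map fun w => wd w y), x < 256 := by decide +kernel

theorem u0_gen : ∀ y ∈ u0L, y ≠ 0 → y ≠ 1 →
    16 ≤ (spanL (1 :: y :: stabW.map fun w => wd w y)).dedup.length := by decide +kernel

theorem u0_card : u0L.length = 16 := by decide +kernel

theorem u0_lt : ∀ y ∈ u0L, y < 256 := by decide +kernel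

theorem alt_gen : ∀ m : Fin 64, m.val ∉ altL →
    16 ≤ (spanL (m.val :: stabW.map fun w => cm w m.val)).dedup.length ∧
    ∀ x ∈ spanL (m.val :: stabW.map fun w => cm w m.val), x < 64 := by decide +kernel

theorem alt_of_small : ∀ m : Fin 64,
    (∀ i : Fin 8, Bn (2 ^ i.val) 1 = false →
      rn m.val (2 ^ i.val) ^^^ 2 ^ i.val = 0 ∨ rn m.val (2 ^ i.val) ^^^ 2 ^ i.val = 1) → m.val ∈ altL := by
  decide +kernel

theorem alt_fix : ∀ m ∈ altL, ∀ y ∈ u0L, rn m y = y := by decide +kernel

theorem alt_lt : ∀ m ∈ altL, m < 64 := by decide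

theorem alt_len : altL.length = 8 := by decide

theorem rn_sixteen : ∀ m : Fin 64, rn m.val 16 = tab16.getD m.val 0 := by decide +kernel

theorem tab_nodup : tab16.Nodup := by decide +kernel

theorem tab_len : tab16.length = 64 := by decide

theorem col_lt : ∀ (c : Fin 256) (i : Fin 8), col c.val i.val < 256 := by decide +kernel

theorem col_products : ∀ c : Fin 256, (∀ i : Fin 8, qn (col c.val i.val) = qn (2 ^ i.val)) →
    (∀ i j : Fin 8, Bn (col c.val i.val) (col c.val j.val) = Bn (2 ^ i.val) (2 ^ j.val)) →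
    col c.val 0 = 1 →
    ∀ i : Fin 8, col c.val i.val = rn (tab16.idxOf c.val) (2 ^ i.val) ∧ tab16.idxOf c.val < 64 := by
  decide +kernel

theorem col16 : ∀ (a : Fin 64) (i : Fin 8), tCol a.val i.val < 256 := by decide +kernel

theorem tn_lt (a : Fin 64) (v : ℕ) : tn a.val v < 256 := by
  have h : ∀ i : Fin 8, (if v.testBit i.val then tCol a.val i.val else 0) < 2 ^ 8 := fun i => by
    split_ifs
    exacts [col16 a i, by norm_num]
  show _ < 2 ^ 8
  unfold tn
  exact Nat.xor_lt_two_pow (Nat.xor_lt_two_pow (Nat.xor_lt_two_pow (h 0) (h 1)) (Nat.xor_lt_two_pow (h 2) (h 3)))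
    (Nat.xor_lt_two_pow (Nat.xor_lt_two_pow (h 4) (h 5)) (Nat.xor_lt_two_pow (h 6) (h 7)))

/-- The orbit of `1` under eight transvections, with the way to each element. -/
def orbL : List (ℕ × Fin 64 × ℕ) :=
  [(1, 1, 3), (1, 2, 5), (1, 4, 129), (3, 8, 2), (3, 2, 15), (3, 4, 195), (5, 16, 4), (5, 4, 165),
   (129, 32, 128), (2, 2, 10), (2, 4, 66), (15, 16, 12), (15, 4, 255), (15, 24, 9), (195, 32, 192),
   (4, 4, 36), (165, 32, 160), (165, 48, 33), (10, 16, 8), (10, 4, 90), (10, 24, 13), (66, 32, 64),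
   (12, 4, 60), (12, 24, 11), (255, 32, 240), (255, 24, 153), (255, 48, 51), (36, 32, 32),
   (36, 48, 161), (160, 48, 37), (8, 4, 24), (8, 24, 14), (90, 32, 80), (90, 24, 189),
   (90, 48, 18), (13, 1, 7), (60, 32, 48), (60, 24, 219), (60, 48, 243), (240, 24, 144),
   (240, 48, 63), (153, 48, 210), (32, 48, 164), (161, 2, 133), (24, 32, 16), (24, 24, 126),
   (24, 48, 82), (14, 1, 6), (80, 24, 176), (80, 48, 26), (189, 1, 231), (189, 48, 115),
   (48, 24, 208), (48, 48, 252), (219, 48, 146), (243, 2, 207), (144, 48, 217), (210, 2, 234),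
   (164, 2, 132), (16, 24, 112), (16, 48, 88), (126, 1, 102), (126, 48, 179), (82, 2, 74),
   (176, 1, 224), (176, 48, 125), (231, 48, 97), (115, 2, 111), (208, 48, 155), (252, 2, 204),
   (146, 2, 186), (207, 24, 73), (217, 2, 237), (234, 16, 104), (112, 1, 96), (112, 48, 190),
   (88, 2, 72), (102, 48, 225), (179, 2, 159), (74, 24, 205), (224, 48, 103), (125, 2, 105),
   (97, 2, 117), (111, 16, 236), (155, 2, 183), (155, 4, 75), (186, 16, 120), (186, 24, 93),
   (237, 16, 110), (96, 48, 230), (190, 2, 150), (190, 4, 206), (225, 2, 213), (159, 16, 220),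
   (159, 24, 249), (205, 1, 135), (103, 2, 123), (105, 16, 235), (117, 16, 180), (117, 24, 20),
   (183, 16, 118), (183, 4, 87), (120, 24, 30), (230, 2, 222), (230, 4, 134), (150, 16, 215),
   (150, 4, 246), (213, 16, 148), (213, 24, 52), (220, 24, 59), (249, 1, 171), (123, 16, 185),
   (123, 24, 28), (180, 24, 85), (118, 4, 22), (222, 16, 157), (222, 4, 174), (222, 24, 56),
   (215, 4, 55), (148, 24, 245), (52, 1, 44), (59, 1, 41), (185, 24, 95), (85, 2, 65),
   (157, 4, 45), (157, 24, 250), (174, 24, 40), (245, 1, 175), (245, 2, 193), (95, 2, 67),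
   (45, 24, 170), (250, 2, 194), (175, 2, 131), (170, 2, 130)]

/-- Each step starts at an element reached before. -/
def chainOK : List ℕ → List (ℕ × Fin 64 × ℕ) → Bool
  | _, [] => true
  | seen, (p, a, c) :: r => seen.contains p && a != 0 && tn a.val p == c && chainOK (c :: seen) r

theorem orbit_chain : chainOK [1] orbL = true := by decide +kernel

theorem orbit_all : ∀ y : Fin 256, y.val ≠ 0 → qn y.val = false →
    y.val ∈ 1 :: orbL.map (fun s => s.2.2) := by decide +kernel

theorem bseq_ne : ∀ i : Fin 8, ∀ a ∈ bseq i.val, a ∈ lag ∧ a ≠ 0 := by decide +kernel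

theorem bseq_col : ∀ i : Fin 8, col 16 i.val = 2 ^ i.val := by decide +kernel

end Cfsg.Agent.CoTwoType
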