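import Cfsg.Agent.CoOneType.Space
import Cfsg.Agent.CoTwoType.Nwc.Pre
import Cfsg.Agent.CoTwoType.Nwc.SpinData

/-!
The spin setting: `z` is weakly closed in `O_2(C(z))`.
-/

set_option autoImplicit false
set_option linter.unusedSectionVars false

open Cfsg Cfsg.Agent.ThreeTrans.OrthCohom Cfsg.Agent.Classical.Quad QuadraticMap Cfsg.Agent.LargeExtra
open Cfsg.Agent.CoOneType

namespace Cfsg.Agent.CoTwoType

theorem ext_bits {f g : O} (h : ∀ i : Fin 8, f.1 (dc (2 ^ i.val)) = g.1 (dc (2 ^ i.val))) : f = g := by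
  refine Subtype.ext (LinearEquiv.ext fun x => ext_basis (f := f.1.toLinearMap) (g := g.1.toLinearMap) ?_ x)
  intro k hk
  simp only [List.mem_cons, List.not_mem_nil, or_false] at hk
  rcases hk with rfl | rfl | rfl | rfl | rfl | rfl | rfl | rfl
  exacts [h 0, h 1, h 2, h 3, h 4, h 5, h 6, h 7]

theorem two_pow_lt (i : Fin 8) : 2 ^ i.val < 256 := by
  have := i.isLt
  calc 2 ^ i.val < 2 ^ 8 := Nat.pow_lt_pow_right (by norm_num) this
    _ = 256 := rfl

/-- Isometries acting as the spin transvections. -/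
structure TData where
  /-- the transvections -/
  t : Fin 64 → O
  spec : ∀ a, a ≠ 0 → ∀ v : Fin 256, (t a).1 (dc v.val) = dc (tn a.val v.val)
  sq : ∀ a, t a * t a = 1
  rel : ∀ a b, t a * t b * t a = t (tS a b)

namespace TData

variable (T : TData)

/-- The product along a word. -/
def wE (w : List (Fin 64)) : O := (w.map T.t).prod

theorem app {a : Fin 64} (ha : a ≠ 0) {v : ℕ} (hv : v < 256) : (T.t a).1 (dc v) = dc (tn a.val v) :=
  T.spec a ha ⟨v, hv⟩

theorem inv_t (a : Fin 64) : (T.t a)⁻¹ = T.t a := inv_eq_of_mul_eq_one_right (T.sq a)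

theorem wd_lt : ∀ (w : List (Fin 64)) {v : ℕ}, v < 256 → wd w v < 256
  | [], _, hv => hv
  | a :: _, _, _ => tn_lt a _

theorem wE_app : ∀ (w : List (Fin 64)), (∀ a ∈ w, a ≠ 0) → ∀ {v : ℕ}, v < 256 →
    (T.wE w).1 (dc v) = dc (wd w v)
  | [], _, _, _ => rfl
  | a :: w, hw, v, hv => by
    show (T.t a * T.wE w).1 (dc v) = dc (tn a.val (wd w v))
    rw [oG_mul_apply, wE_app w (fun b hb => hw b (List.mem_cons_of_mem _ hb)) hv,
      T.app (hw a List.mem_cons_self) (wd_lt w hv)]

theorem wE_conj : ∀ (w : List (Fin 64)) (a : Fin 64), T.wE w * T.t a * (T.wE w)⁻¹ = T.t (wS w a)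
  | [], a => by simp [wE, wS]
  | b :: w, a => by
    show T.t b * T.wE w * T.t a * (T.t b * T.wE w)⁻¹ = T.t (tS b (wS w a))
    rw [← T.rel, ← wE_conj w a, mul_inv_rev, T.inv_t]
    group

theorem comm_lag {a b : Fin 64} (h : s6 a.val b.val = false) : T.t a * T.t b = T.t b * T.t a := by
  have e := T.rel a b
  rw [tS_perp h] at e
  calc T.t a * T.t b = T.t a * T.t b * (T.t a * T.t a) := by rw [T.sq, mul_one]
    _ = T.t b * T.t a := by rw [← mul_assoc, e]

/-- The selected product along a list. -/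
def pE (l : List (ℕ × Fin 64)) (m : ℕ) : O :=
  l.foldr (fun p x => if m.testBit p.1 then T.t p.2 * x else x) 1

theorem pE_comm (l : List (ℕ × Fin 64)) (m : ℕ) (x : O) (h : ∀ p ∈ l, x * T.t p.2 = T.t p.2 * x) :
    x * T.pE l m = T.pE l m * x := by
  induction l with
  | nil => simp [pE]
  | cons p l ih =>
    have h1 := ih fun q hq => h q (List.mem_cons_of_mem _ hq)
    show x * (if m.testBit p.1 then T.t p.2 * T.pE l m else T.pE l m) =
      (if m.testBit p.1 then T.t p.2 * T.pE l m else T.pE l m) * x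
    split_ifs with hb
    · rw [← mul_assoc, h p List.mem_cons_self, mul_assoc, h1, ← mul_assoc]
    · exact h1

theorem pE_xor : ∀ (l : List (ℕ × Fin 64)), (∀ p ∈ l, ∀ q ∈ l, s6 p.2.val q.2.val = false) → ∀ m n,
    T.pE l (m ^^^ n) = T.pE l m * T.pE l n
  | [], _, _, _ => by simp [pE]
  | p :: l, h, m, n => by
    have ih := pE_xor l (fun q hq r hr => h q (List.mem_cons_of_mem _ hq) r (List.mem_cons_of_mem _ hr)) m n
    have hc : T.t p.2 * T.pE l m = T.pE l m * T.t p.2 := T.pE_comm l m _ fun q hq =>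
      T.comm_lag (h p List.mem_cons_self q (List.mem_cons_of_mem _ hq))
    have hcn : ∀ m, T.pE (p :: l) m = if m.testBit p.1 then T.t p.2 * T.pE l m else T.pE l m := fun _ => rfl
    rw [hcn, hcn, hcn, Nat.testBit_xor]
    cases m.testBit p.1 <;> cases n.testBit p.1 <;> simp only [Bool.false_eq_true, Bool.xor_false, Bool.xor_true,
      Bool.not_false, Bool.not_true, ↓reduceIte, ih]
    · rw [← mul_assoc, ← mul_assoc, hc]
    · group
    · calc T.pE l m * T.pE l n = T.pE l m * (T.t p.2 * T.t p.2) * T.pE l n := by rw [T.sq, mul_one]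
        _ = T.t p.2 * T.pE l m * (T.t p.2 * T.pE l n) := by rw [hc]; group

theorem pE_app : ∀ (l : List (ℕ × Fin 64)), (∀ p ∈ l, p.2 ≠ 0) → ∀ (m : ℕ) {v : ℕ}, v < 256 →
    (T.pE l m).1 (dc v) = dc (l.foldr (fun p x => if m.testBit p.1 then tn p.2.val x else x) v) ∧
      l.foldr (fun p x => if m.testBit p.1 then tn p.2.val x else x) v < 256
  | [], _, _, _, hv => ⟨rfl, hv⟩
  | p :: l, h, m, v, hv => by
    obtain ⟨h1, h2⟩ := pE_app l (fun q hq => h q (List.mem_cons_of_mem _ hq)) m hv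
    show (if m.testBit p.1 then T.t p.2 * T.pE l m else T.pE l m : O).1 (dc v) = dc (if _ then _ else _) ∧
      (if _ then _ else _) < 256
    split_ifs
    · exact ⟨by rw [oG_mul_apply, h1, T.app (h p List.mem_cons_self) h2], tn_lt _ _⟩
    · exact ⟨h1, h2⟩

/-- The products fixing `1`. -/
def rE (m : ℕ) : O := T.pE rbase m

theorem rE_xor (m n : ℕ) : T.rE (m ^^^ n) = T.rE m * T.rE n :=
  T.pE_xor rbase (by decide +kernel) m n

theorem rE_app (m : ℕ) {v : ℕ} (hv : v < 256) : (T.rE m).1 (dc v) = dc (rn m v) ∧ rn m v < 256 :=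
  T.pE_app rbase (by decide) m hv

theorem rE_zero : T.rE 0 = 1 := rfl

theorem rE_mcode {a : Fin 64} (ha : a ∈ lag) : T.rE (mcode a) = T.t a :=
  ext_bits fun i => by
    rw [(T.rE_app _ (two_pow_lt i)).1, rn_single a ha i,
      T.app ((by decide : ∀ a ∈ lag, a ≠ (0 : Fin 64)) a ha) (two_pow_lt i)]

theorem rE_conj {w : List (Fin 64)} (hw : w ∈ stabW) (m : ℕ) :
    T.wE w * T.rE m * (T.wE w)⁻¹ = T.rE (cm w m) := by
  suffices ∀ l : List (ℕ × Fin 64), (∀ p ∈ l, p ∈ rbase) →
      T.wE w * T.pE l m * (T.wE w)⁻¹ =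
        T.rE (l.foldr (fun p x => (if m.testBit p.1 then mcode (wS w p.2) else 0) ^^^ x) 0) from
    this rbase fun _ h => h
  intro l
  induction l with
  | nil => intro _; simp [pE, rE_zero]
  | cons p l ih =>
    intro h
    have h1 := ih fun q hq => h q (List.mem_cons_of_mem _ hq)
    show T.wE w * (if m.testBit p.1 then T.t p.2 * T.pE l m else T.pE l m) * (T.wE w)⁻¹ =
      T.rE ((if m.testBit p.1 then mcode (wS w p.2) else 0) ^^^
        l.foldr (fun p x => (if m.testBit p.1 then mcode (wS w p.2) else 0) ^^^ x) 0)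
    split_ifs
    · rw [T.rE_xor, ← h1, T.rE_mcode (stabW_lag w hw p (h p List.mem_cons_self)).1, ← T.wE_conj]; group
    · rw [Nat.zero_xor]; exact h1

theorem rE_inj {m n : ℕ} (hm : m < 64) (hn : n < 64) (h : T.rE m = T.rE n) : m = n := by
  have e := congrArg (fun f : O => f.1 (dc 16)) h
  simp only [(T.rE_app m (show 16 < 256 by norm_num)).1, (T.rE_app n (show 16 < 256 by norm_num)).1] at e
  have e' := dc_inj (T.rE_app m (show 16 < 256 by norm_num)).2 (T.rE_app n (show 16 < 256 by norm_num)).2 e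
  rw [rn_sixteen ⟨m, hm⟩, rn_sixteen ⟨n, hn⟩] at e'
  simp only [List.getD_eq_getElem?_getD, List.getElem?_eq_getElem (show m < tab16.length by rw [tab_len]; exact hm),
    List.getElem?_eq_getElem (show n < tab16.length by rw [tab_len]; exact hn), Option.getD_some] at e'
  exact tab_nodup.getElem_inj_iff.1 e'

end TData

/-- Membership in a span by induction. -/
theorem spanL_mem {P : ℕ → Prop} (h0 : P 0) (hx : ∀ a b, P a → P b → P (a ^^^ b)) {l : List ℕ}
    (hl : ∀ a ∈ l, P a) : ∀ x ∈ spanL l, P x := by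
  suffices ∀ l : List ℕ, (∀ a ∈ l, P a) → ∀ S : List ℕ, (∀ x ∈ S, P x) →
      ∀ x ∈ l.foldl (fun S m => if m ∈ S then S else S ++ S.map (· ^^^ m)) S, P x from
    this l hl [0] (by simpa using h0)
  intro l
  induction l with
  | nil => exact fun _ S h => h
  | cons m l ih =>
    intro hl S hS
    refine ih (fun a ha => hl a (List.mem_cons_of_mem _ ha)) _ ?_
    intro x hx'
    dsimp only at hx'
    by_cases hm : m ∈ S
    · rw [if_pos hm] at hx'; exact hS x hx'
    · rw [if_neg hm, List.mem_append, List.mem_map] at hx'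
      rcases hx' with h | ⟨y, hy, rfl⟩
      exacts [hS x h, hx y m (hS y hy) (hl m List.mem_cons_self)]

/-- An injection on the members of a list. -/
theorem length_le_card {α : Type*} [Finite α] (l : List ℕ) (f : ∀ x ∈ l, α)
    (hf : ∀ x (hx : x ∈ l) y (hy : y ∈ l), f x hx = f y hy → x = y) : l.dedup.length ≤ Nat.card α := by
  have h := Nat.card_le_card_of_injective (fun x : ↥l.toFinset => f x.1 (List.mem_toFinset.1 x.2))
    fun a b e => Subtype.ext (hf _ _ _ _ e)
  rwa [Nat.card_eq_fintype_card, Fintype.card_coe, List.card_toFinset] at h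

variable {G : Type*} [Group G] [Finite G] {z : G}

set_option maxHeartbeats 1000000 in
/-- In the spin setting `z` is weakly closed in `O_2(C(z))`. -/
theorem weak_of_spin (P : Pre z (qP 4)) (T : TData)
    (hsurj : ∀ w : List (Fin 64), (∀ a ∈ w, a ≠ 0) → ∃ c, c * z = z * c ∧ P.act c = T.wE w)
    (hperm : ∀ c, c * z = z * c → ∀ a, a ≠ 0 → ∃ b, b ≠ 0 ∧ P.act c * T.t a * (P.act c)⁻¹ = T.t b)
    {g : G} (hm : g * z * g⁻¹ ∈ oc z) : g * z * g⁻¹ = z := by
  classical
  by_contra hne
  -- the conjugate may be taken above `1`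
  obtain ⟨g, hm, hne, hu⟩ : ∃ g, g * z * g⁻¹ ∈ oc z ∧ g * z * g⁻¹ ≠ z ∧ P.pr (g * z * g⁻¹) = dc 1 := by
    obtain ⟨L⟩ := P.exists_loc hm hne
    obtain ⟨y, hy⟩ := dc_surj (P.pr (g * z * g⁻¹))
    have hy0 : y.val ≠ 0 := fun h => L.u_ne (by rw [← hy, h, dc_zero])
    have hyq : qn y.val = false := (bz_eq_zero _).1 (by rw [← q_dc y.isLt, hy]; exact L.q_u)
    set Pv : ℕ → Prop := fun v => v < 256 ∧ ∃ w : List (Fin 64), (∀ a ∈ w, a ≠ 0) ∧
      (T.wE w).1 (dc 1) = dc v
    have key : ∀ (st : List (ℕ × Fin 64 × ℕ)) (seen : List ℕ), (∀ v ∈ seen, Pv v) → chainOK seen st = true →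
        ∀ s ∈ st, Pv s.2.2 := by
      intro st
      induction st with
      | nil => exact fun _ _ _ s hs => absurd hs List.not_mem_nil
      | cons s st ih =>
        obtain ⟨p, a, v⟩ := s
        intro seen hseen hok
        simp only [chainOK, Bool.and_eq_true, List.contains_iff_mem, bne_iff_ne, ne_eq, beq_iff_eq] at hok
        obtain ⟨⟨⟨hp, ha⟩, hv⟩, hrest⟩ := hok
        have hnew : Pv v := by
          obtain ⟨hp256, w, hw, e⟩ := hseen p hp
          refine ⟨hv ▸ tn_lt _ _, a :: w, by simpa [ha] using hw, ?_⟩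
          show (T.t a * T.wE w).1 (dc 1) = _
          rw [oG_mul_apply, e, T.app ha hp256, hv]
        intro s hs
        rcases List.mem_cons.1 hs with rfl | hs
        · exact hnew
        · exact ih (v :: seen) (fun x hx => (List.mem_cons.1 hx).elim (fun h => h ▸ hnew) (hseen x)) hrest s hs
    have hone : Pv 1 := ⟨by norm_num, [], by simp, rfl⟩
    obtain ⟨-, w, hw, e⟩ : Pv y.val := by
      rcases List.mem_cons.1 (orbit_all y hy0 hyq) with h | h
      · rw [h]; exact hone
      · obtain ⟨s, hs, e⟩ := List.mem_map.1 h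
        rw [← e]
        exact key orbL [1] (by simpa using hone) orbit_chain s hs
    obtain ⟨c, hc, hca⟩ := hsurj w hw
    have hci : c⁻¹ * z = z * c⁻¹ := (Commute.inv_left hc).eq
    have hconj : c⁻¹ * g * z * (c⁻¹ * g)⁻¹ = c⁻¹ * (g * z * g⁻¹) * c⁻¹⁻¹ := by group
    refine ⟨c⁻¹ * g, by rw [hconj]; exact P.nrm hci hm, fun h => hne ?_, ?_⟩
    · rw [hconj, inv_inv] at h
      calc g * z * g⁻¹ = c * (c⁻¹ * (g * z * g⁻¹) * c) * c⁻¹ := by group
        _ = z := by rw [h, hc, mul_inv_cancel_right]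
    · rw [hconj, P.act_spec _ hci _ hm, P.act_inv hc, hca, ← hy, ← e, oG_inv_apply]
  obtain ⟨L⟩ := P.exists_loc hm hne
  rw [hu] at L
  have hstab : ∀ w ∈ stabW, (T.wE w).1 (dc 1) = dc 1 ∧
      (∀ e ∈ L.D, (T.wE w).1 e ∈ L.D) ∧ ∀ x ∈ L.I, T.wE w * x * (T.wE w)⁻¹ ∈ L.I := fun w hw => by
    obtain ⟨h1, h2⟩ := stabW_fix w hw
    have hfix : (T.wE w).1 (dc 1) = dc 1 := by rw [T.wE_app w h2 (by norm_num), h1]
    obtain ⟨c, hc, hca⟩ := hsurj w h2
    have := L.nrm c hc (by rw [hca]; exact hfix)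
    rw [hca] at this
    exact ⟨hfix, this⟩
  -- the meet lies in the subspace
  have hD : ∀ e ∈ L.D, ∃ y ∈ u0L, dc y = e := by
    intro e he
    obtain ⟨y, rfl⟩ := dc_surj e
    refine ⟨y.val, ?_, rfl⟩
    have hq : qn y.val = false := (bz_eq_zero _).1 (by rw [← q_dc y.isLt]; exact L.sing _ he)
    have hperp : ∀ a ∈ L.D, ∀ b ∈ L.D, Bp a b = 0 := fun a ha b hb => by
      show polar (qP 4) a b = 0
      rw [polar, L.sing _ (L.D.add_mem ha hb), L.sing a ha, L.sing b hb]; simp
    have hb : Bn 1 y.val = false :=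
      (bz_eq_zero _).1 (by rw [← Bp_dc (by norm_num) y.isLt]; exact hperp _ L.u_mem _ he)
    refine (meet_small y hq hb).resolve_right ?_
    rintro ⟨w, hw, h⟩
    have h2 : ∀ a ∈ w, a ≠ 0 := (stabW_fix w hw).2
    have h3 := (hstab w hw).2.1 _ he
    rw [T.wE_app w h2 y.isLt] at h3
    have := hperp _ he _ h3
    rw [Bp_dc y.isLt (TData.wd_lt w y.isLt), h] at this
    exact one_ne_zero this
  have hDle : Nat.card ↥L.D ≤ 16 := by
    refine (Nat.card_le_card_of_surjective (fun y : ↥(u0L.toFinset.filter fun y => dc y ∈ L.D) =>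
      (⟨dc y.1, (Finset.mem_filter.1 y.2).2⟩ : ↥L.D)) fun e => by
        obtain ⟨y, hy, hye⟩ := hD e e.2
        exact ⟨⟨y, Finset.mem_filter.2 ⟨List.mem_toFinset.2 hy, hye ▸ e.2⟩⟩, Subtype.ext hye⟩).trans ?_
    rw [Nat.card_eq_fintype_card, Fintype.card_coe]
    exact ((Finset.card_filter_le _ _).trans (List.toFinset_card_le _)).trans u0_card.le
  -- either small or full
  have hsize : (∀ e ∈ L.D, e = 0 ∨ e = dc 1) ∧ 64 ≤ Nat.card ↥L.I ∨
      16 ≤ Nat.card ↥L.D ∧ Nat.card ↥L.I ≤ 8 := by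
    by_cases hs : ∀ e ∈ L.D, e = 0 ∨ e = dc 1
    · refine Or.inl ⟨hs, ?_⟩
      have h2 : Nat.card ↥L.D ≤ 2 := by
        have h1 := Nat.card_le_card_of_injective (fun x : ↥L.D => decide ((x : V) = dc 1)) fun x y h => by
          refine Subtype.ext ?_
          rcases hs x x.2 with a | a <;> rcases hs y y.2 with b | b <;>
            simp [a, b, L.u_ne.symm] at h ⊢
        rwa [Nat.card_eq_fintype_card (α := Bool), Fintype.card_bool] at h1
      have := L.card
      nlinarith
    · push Not at hs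
      obtain ⟨e, he, he0, he1⟩ := hs
      obtain ⟨y, hy, rfl⟩ := hD e he
      have hlen := u0_gen y hy (fun h => he0 (by rw [h, dc_zero])) (fun h => he1 (by rw [h]))
      obtain ⟨l, hl⟩ : ∃ l, l = spanL (1 :: y :: stabW.map fun w => wd w y) := ⟨_, rfl⟩
      have hllt : ∀ x ∈ l, x < 256 := by rw [hl]; exact spanU_lt y hy
      rw [← hl] at hlen
      have hin : ∀ x ∈ l, dc x ∈ L.D := by
        rw [hl]
        refine spanL_mem (P := fun x => dc x ∈ L.D) (by rw [dc_zero]; exact L.D.zero_mem)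
          (fun a b ha hb => by rw [dc_xor]; exact L.D.add_mem ha hb) ?_
        intro a ha
        rcases List.mem_cons.1 ha with rfl | ha
        · exact L.u_mem
        rcases List.mem_cons.1 ha with rfl | ha
        · exact he
        obtain ⟨w, hw, rfl⟩ := List.mem_map.1 ha
        rw [← T.wE_app w (stabW_fix w hw).2 (u0_lt y hy)]
        exact (hstab w hw).2.1 _ he
      have hll : ∀ x ∈ l, x < 256 := hllt
      have h16 : 16 ≤ Nat.card ↥L.D :=
        hlen.trans (length_le_card l (fun x hx => (⟨dc x, hin x hx⟩ : ↥L.D))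
          fun x hx x' hx' e => dc_inj (hll x hx) (hll x' hx') (congrArg Subtype.val e))
      refine Or.inr ⟨h16, ?_⟩
      have := L.card
      nlinarith
  -- the products in the group fix the subspace
  have halt : ∀ m : ℕ, m < 64 → T.rE m ∈ L.I → m ∈ altL := by
    intro m hm64 hmI
    rcases hsize with ⟨hs, -⟩ | ⟨-, hI8⟩
    · refine alt_of_small ⟨m, hm64⟩ fun i hi => ?_
      have hb : Bp (dc 1) (dc (2 ^ i.val)) = 0 := by
        rw [Bp_comm, Bp_dc (two_pow_lt i) (by norm_num), hi]; rfl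
      have h := hs _ (L.perp _ hmI _ hb)
      rw [(T.rE_app m (two_pow_lt i)).1, ← dc_xor, ← dc_zero] at h
      have hlt : rn m (2 ^ i.val) ^^^ 2 ^ i.val < 256 := xor_lt (T.rE_app m (two_pow_lt i)).2 (two_pow_lt i)
      exact h.imp (dc_inj hlt (by norm_num)) (dc_inj hlt (by norm_num))
    · by_contra hna
      obtain ⟨hlen, hlt⟩ := alt_gen ⟨m, hm64⟩ hna
      obtain ⟨l, hl⟩ : ∃ l, l = spanL (m :: stabW.map fun w => cm w m) := ⟨_, rfl⟩
      simp only [← hl] at hlen hlt
      have hin : ∀ x ∈ l, T.rE x ∈ L.I := by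
        rw [hl]
        refine spanL_mem (P := fun x => T.rE x ∈ L.I) (by rw [T.rE_zero]; exact L.I.one_mem)
          (fun a b ha hb => by rw [T.rE_xor]; exact L.I.mul_mem ha hb) ?_
        intro a ha
        rcases List.mem_cons.1 ha with rfl | ha
        · exact hmI
        obtain ⟨w, hw, rfl⟩ := List.mem_map.1 ha
        rw [← T.rE_conj hw]
        exact (hstab w hw).2.2 _ hmI
      haveI : Finite O := Finite.of_injective (fun g : O => ((g.1 : V → V)))
        fun g h e => Subtype.ext (DFunLike.coe_injective e)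
      have h16 : 16 ≤ Nat.card ↥L.I :=
        hlen.trans (length_le_card l (fun x hx => (⟨T.rE x, hin x hx⟩ : ↥L.I))
          fun x hx x' hx' e => T.rE_inj (hlt x hx) (hlt x' hx') (congrArg Subtype.val e))
      omega
  -- every element of the group is such a product
  have hall : ∀ x ∈ L.I, ∃ m ∈ altL, x = T.rE m := by
    intro x hx
    obtain ⟨c, hc, hcx⟩ := L.range x hx
    have hxu : x.1 (dc 1) = dc 1 := L.fix x hx
    have hxx : x⁻¹ = x := inv_eq_of_mul_eq_one_right (L.sq x hx)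
    have hcomm : ∀ a ∈ lag, x * T.t a = T.t a * x := by
      intro a ha
      have ha0 := (by decide : ∀ a ∈ lag, a ≠ (0 : Fin 64)) a ha
      obtain ⟨b, hb0, hb⟩ := hperm c hc a ha0
      rw [hcx, hxx] at hb
      have hta : (T.t a).1 (dc 1) = dc 1 := by rw [T.app ha0 (by norm_num), (lag_fix a ha0).2 ha]
      have hblag : b ∈ lag := by
        refine (lag_fix b hb0).1 (dc_inj (tn_lt b 1) (by norm_num) ?_)
        rw [← T.app hb0 (by norm_num), ← hb, oG_mul_apply, oG_mul_apply, hxu, hta, hxu]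
      suffices b = a by
        rw [this] at hb
        calc x * T.t a = x * T.t a * x * x := by rw [mul_assoc _ x x, L.sq x hx, mul_one]
          _ = T.t a * x := by rw [hb]
      by_contra hab
      have hmem : T.rE (mcode a ^^^ mcode b) ∈ L.I := by
        obtain ⟨d, hd, hda⟩ := hsurj [a] (by simpa using ha0)
        have hda' : P.act d = T.t a := by rw [hda]; simp [TData.wE]
        have h := (L.nrm d hd (by rw [hda']; exact hta)).2 x hx
        rw [hda', T.inv_t] at h
        have h' := L.I.mul_mem h hx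
        rwa [T.rE_xor, T.rE_mcode ha, T.rE_mcode hblag, ← hb, ← mul_assoc, ← mul_assoc]
      exact (lag_pair a ha b hblag (Ne.symm hab)).1 (halt _ (lag_pair a ha b hblag (Ne.symm hab)).2 hmem)
    obtain ⟨y, hy⟩ := dc_surj (x.1 (dc 16))
    have hcol : ∀ i : Fin 8, x.1 (dc (2 ^ i.val)) = dc (col y.val i.val) := by
      intro i
      have : ∀ (l : List (Fin 64)), (∀ a ∈ l, a ∈ lag ∧ a ≠ 0) → ∀ v v', v < 256 → v' < 256 → x.1 (dc v) = dc v' →
          x.1 (dc (l.foldl (fun x a => tn a.val x ^^^ x) v)) = dc (l.foldl (fun x a => tn a.val x ^^^ x) v') := by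
        intro l
        induction l with
        | nil => exact fun _ _ _ _ _ e => e
        | cons a l ih =>
          intro hl v v' hv hv' e
          refine ih (fun b hb => hl b (List.mem_cons_of_mem _ hb)) _ _ (xor_lt (tn_lt _ _) hv)
            (xor_lt (tn_lt _ _) hv') ?_
          obtain ⟨hal, ha0⟩ := hl a List.mem_cons_self
          rw [dc_xor, dc_xor, map_add, e, ← T.app ha0 hv, ← oG_mul_apply, hcomm a hal, oG_mul_apply, e,
            T.app ha0 hv']
      have h16 := this (bseq i.val) (bseq_ne i) 16 y.val (by norm_num) y.isLt hy.symm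
      exact (congrArg (fun k => x.1 (dc k)) (bseq_col i).symm).trans h16
    have hlt := fun i : Fin 8 => col_lt y i
    have hprod := col_products y (fun i => bz_inj _ _ (by
        rw [← q_dc (hlt i), ← q_dc (two_pow_lt i), ← hcol i]; exact x.2 _))
      (fun i j => bz_inj _ _ (by
        rw [← Bp_dc (hlt i) (hlt j), ← Bp_dc (two_pow_lt i) (two_pow_lt j), ← hcol i, ← hcol j, polar_g]))
      (dc_inj (hlt 0) (by norm_num) (by
        have h0 := hcol 0
        simp only [Fin.val_zero, pow_zero] at h0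
        rw [← h0]; exact hxu))
    have hxe : x = T.rE (tab16.idxOf y.val) :=
      ext_bits fun i => by rw [hcol i, (hprod i).1, (T.rE_app _ (two_pow_lt i)).1]
    exact ⟨_, halt _ (hprod 0).2 (hxe ▸ hx), hxe⟩
  have hI8 : Nat.card ↥L.I ≤ 8 := by
    have h := Nat.card_le_card_of_surjective (fun m : ↥(altL.toFinset.filter fun m => T.rE m ∈ L.I) =>
      (⟨T.rE m.1, (Finset.mem_filter.1 m.2).2⟩ : ↥L.I)) fun x => by
        obtain ⟨m, hm, e⟩ := hall x x.2
        exact ⟨⟨m, Finset.mem_filter.2 ⟨List.mem_toFinset.2 hm, e ▸ x.2⟩⟩, Subtype.ext e.symm⟩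
    refine h.trans ?_
    rw [Nat.card_eq_fintype_card, Fintype.card_coe]
    exact ((Finset.card_filter_le _ _).trans (List.toFinset_card_le _)).trans alt_len.le
  rcases hsize with ⟨-, h64⟩ | ⟨h16, -⟩
  · omega
  · have := L.kill fun x hx e he => by
      obtain ⟨m, hm, rfl⟩ := hall x hx
      obtain ⟨y, hy, rfl⟩ := hD e he
      rw [(T.rE_app m (u0_lt y hy)).1, alt_fix m hm y hy]
    omega

end Cfsg.Agent.CoTwoType
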